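import Groth.Agent.SkySumLib.Basic
import Groth.Agent.DivSeqLib.Main
import Groth.Agent.EtShLib.FiniteExact
import Groth.Agent.EtTransferLib.PointPushH
import Groth.Agent.S14451
import Groth.Agent.S0073
import Mathlib.AlgebraicGeometry.AlgClosed.Basic
import Mathlib.FieldTheory.PurelyInseparable.Basic

/-!
# Cohomology of sheaves supported in closed points
-/

set_option autoImplicit false
set_option linter.style.haveILetI false
set_option linter.unusedSectionVars false
set_option backward.isDefEq.respectTransparency false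
set_option backward.isDefEq.respectTransparency.types false
set_option synthInstance.maxHeartbeats 400000
set_option maxHeartbeats 1000000

universe u

open CategoryTheory CategoryTheory.Limits CategoryTheory.Abelian AlgebraicGeometry Opposite
open Groth.Agent.EtShLib

noncomputable section

namespace SkySumLib

theorem isSepClosed_residueField {K : Type u} [Field K] [IsSepClosed K] {X : Scheme.{u}}
    (a : X ⟶ Spec (CommRingCat.of K)) [LocallyOfFiniteType a] (x : X) (hx : IsClosed ({x} : Set X)) :
    IsSepClosed (X.residueField x) := by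
  haveI : IsFinite (X.fromSpecResidueField x ≫ a) := by
    rw [isClosed_singleton_iff_isClosedImmersion] at hx
    rw [isFinite_iff_locallyOfFiniteType_of_jacobsonSpace]
    infer_instance
  let φ := Spec.preimage (X.fromSpecResidueField x ≫ a)
  have hint : φ.hom.IsIntegral := by
    rw [← IsIntegralHom.SpecMap_iff, Spec.map_preimage]
    infer_instance
  letI : Algebra K (X.residueField x) := φ.hom.toAlgebra
  haveI : Algebra.IsIntegral K (X.residueField x) := ⟨hint⟩
  haveI : Algebra.IsAlgebraic K (X.residueField x) := Algebra.IsIntegral.isAlgebraic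
  exact Algebra.IsAlgebraic.isSepClosed (F := K)

theorem isSepClosed_residueField_self (κ : Type u) [Field κ] [IsSepClosed κ] :
    IsSepClosed (IsLocalRing.ResidueField κ) := by
  haveI : Algebra.IsAlgebraic κ (IsLocalRing.ResidueField κ) :=
    ⟨fun x => by
      obtain ⟨y, rfl⟩ := IsLocalRing.residue_surjective x
      exact isAlgebraic_algebraMap y⟩
  exact Algebra.IsAlgebraic.isSepClosed (F := κ)

variable {X : Scheme.{u}} (F : EtCoh.Ab X)

theorem subsingleton_H_K {x : Pt X} [IsSepClosed (X.residueField x.1)] (q : ℕ) (hq : 0 < q) :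
    Subsingleton (EtCoh.H X (K F x) q) := by
  haveI : IsClosedImmersion (ix x) := isClosed_singleton_iff_isClosedImmersion.1 x.2
  haveI : IsFinite (ix x) := inferInstance
  haveI : PreservesFiniteLimits (EtCoh.pull (ix x)) := inferInstance
  haveI := isSepClosed_residueField_self (X.residueField x.1)
  haveI : Subsingleton (EtCoh.H (Spec (X.residueField x.1)) ((EtCoh.pull (ix x)).obj F) q) :=
    Groth.Agent.S0073.result (X.residueField x.1) _ q hq
  exact ⟨fun a b => (Groth.Agent.S14451.result (ix x) ((EtCoh.pull (ix x)).obj F)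
    (fun p hp => isZero_rightDerived_push_finite (ix x) _ p hp) q).1 (Subsingleton.elim _ _)⟩

theorem isOfFinAddOrder_H_K [IsNoetherian X] (x : Pt X) (n : ℕ) (z : EtCoh.H X (K F x) (n + 1)) :
    IsOfFinAddOrder z := by
  haveI : IsClosedImmersion (ix x) := isClosed_singleton_iff_isClosedImmersion.1 x.2
  exact EtTransferLib.isOfFinAddOrder_H_push (ix x) n _ z

variable {F}

/-- `H^q(X, F) = 0` for `q > 0` when `F` lives on closed points with separably closed residue fields. -/
theorem subsingleton_H [IsNoetherian X] (hF : SuppClosed F)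
    (hsep : ∀ x : Pt X, IsSepClosed (X.residueField x.1)) (q : ℕ) (hq : 0 < q) :
    Subsingleton (EtCoh.H X F q) := by
  haveI := isIso_toSum hF
  let e := asIso (toSum hF)
  refine subsingleton_of_forall_eq 0 fun z => ?_
  obtain ⟨S, w, hw⟩ := DivSeqLib.exists_sum_of_coprod (fun x : Pt X => K F x) q
    (Ext.comp (z : EtCoh.H X F q) (Ext.mk₀ e.hom) (add_zero q))
  have h0 : Ext.comp (z : EtCoh.H X F q) (Ext.mk₀ e.hom) (add_zero q) = 0 := by
    refine hw.trans (Finset.sum_eq_zero fun i _ => ?_)
    haveI := hsep (w i).1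
    haveI := subsingleton_H_K F (x := (w i).1) q hq
    rw [Subsingleton.elim (w i).2 0, Ext.zero_comp]
  have h' := congrArg (fun t => Ext.comp t (Ext.mk₀ e.inv) (add_zero q)) h0
  rwa [Ext.comp_assoc_of_third_deg_zero, Ext.mk₀_comp_mk₀, Iso.hom_inv_id, Ext.comp_mk₀_id, Ext.zero_comp] at h'

theorem isOfFinAddOrder_sum {A : Type*} [AddCommGroup A] {ι : Type*} (s : Finset ι) (f : ι → A)
    (h : ∀ i ∈ s, IsOfFinAddOrder (f i)) : IsOfFinAddOrder (∑ i ∈ s, f i) :=
  (AddCommGroup.torsion A).sum_mem h

theorem isOfFinAddOrder_comp {G G' : EtCoh.Ab X} (f : G ⟶ G') {n : ℕ} {z : EtCoh.H X G n}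
    (h : IsOfFinAddOrder z) : IsOfFinAddOrder (show EtCoh.H X G' n from z.comp (Ext.mk₀ f) (add_zero n)) :=
  ((EtCoh.HF X n).map f).hom.isOfFinAddOrder h

/-- `H^q(X, F)` is torsion for `q > 0` when `F` lives on closed points. -/
theorem isOfFinAddOrder_H [IsNoetherian X] (hF : SuppClosed F) (n : ℕ) (z : EtCoh.H X F (n + 1)) :
    IsOfFinAddOrder z := by
  haveI := isIso_toSum hF
  let e := asIso (toSum hF)
  let z' : EtCoh.H X (∐ fun x : Pt X => K F x) (n + 1) := Ext.comp (z : EtCoh.H X F (n + 1)) (Ext.mk₀ e.hom) (add_zero _)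
  obtain ⟨S, w, hw⟩ := DivSeqLib.exists_sum_of_coprod (fun x : Pt X => K F x) (n + 1) z'
  have h1 : IsOfFinAddOrder z' := by
    rw [hw]
    refine isOfFinAddOrder_sum _ _ fun i _ => ?_
    exact isOfFinAddOrder_comp (Sigma.ι (fun x : Pt X => K F x) (w i).1) (isOfFinAddOrder_H_K F (w i).1 n (w i).2)
  have h' := isOfFinAddOrder_comp e.inv h1
  have e1 : Ext.comp z' (Ext.mk₀ e.inv) (add_zero (n + 1)) = z := by
    show Ext.comp (Ext.comp (z : EtCoh.H X F (n + 1)) (Ext.mk₀ e.hom) (add_zero _)) (Ext.mk₀ e.inv) _ = z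
    rw [Ext.comp_assoc_of_third_deg_zero, Ext.mk₀_comp_mk₀, Iso.hom_inv_id, Ext.comp_mk₀_id]
  exact e1 ▸ h'

end SkySumLib

end
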