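import Groth.Agent.DivSeqLib.Coprod
import Groth.Agent.EtShLib.Stalk
import Groth.Agent.EtShLib.Noeth
import Groth.Agent.EtAcycLib.Local
import Groth.Agent.ConstUnitLib.Sections
import Mathlib.AlgebraicGeometry.Morphisms.ClosedImmersion
import Mathlib.CategoryTheory.Limits.Types.Limits

/-!
# Sheaves supported in closed points are sums of skyscrapers
-/

set_option autoImplicit false
set_option linter.style.haveILetI false
set_option linter.unusedSectionVars false
set_option backward.isDefEq.respectTransparency false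
set_option backward.isDefEq.respectTransparency.types false
set_option synthInstance.maxHeartbeats 400000
set_option maxHeartbeats 2000000

universe u

open CategoryTheory CategoryTheory.Limits AlgebraicGeometry Opposite
open Groth.Agent.EtShLib

noncomputable section

namespace SkySumLib

variable {X : Scheme.{u}} (F : EtCoh.Ab X)

/-- Closed points. -/
abbrev Pt (X : Scheme.{u}) : Type u := {x : X // IsClosed ({x} : Set X)}

/-- The inclusion of a closed point. -/
abbrev ix (x : Pt X) : Spec (X.residueField x.1) ⟶ X := X.fromSpecResidueField x.1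

/-- The skyscraper part at `x`. -/
abbrev K (x : Pt X) : EtCoh.Ab X := (EtCoh.push (ix x)).obj ((EtCoh.pull (ix x)).obj F)

/-- The unit. -/
abbrev ux (x : Pt X) : F ⟶ K F x := (EtCoh.pullPushAdj (ix x)).unit.app F

/-- `F` vanishes at nonclosed points. -/
def SuppClosed : Prop :=
  ∀ (Ω : Type u) [Field Ω] [IsSepClosed Ω] (ξ : Spec (CommRingCat.of Ω) ⟶ X),
    ¬ IsClosed ({ξ.base default} : Set X) → IsZero ((stk (A := AddCommGrpCat.{u + 1}) ξ).obj F)

/-- The section is nonzero near `v`. -/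
def NZ {V : X.Etale} (s : ToType (F.obj.obj (op V))) (v : V.left) : Prop :=
  ¬ ∃ (W : X.Etale) (g : W ⟶ V) (w : W.left), g.left.base w = v ∧ F.obj.map g.op s = 0

theorem germ_eq_zero_iff {V : X.Etale} (s : ToType (F.obj.obj (op V))) {Ω : Type u} [Field Ω] [IsSepClosed Ω]
    {ξ : Spec (CommRingCat.of Ω) ⟶ X} (v : Fib ξ V) : germ ξ F V v s = 0 ↔ ¬ NZ F s v.pt := by
  rw [NZ, not_not]
  constructor
  · intro h
    rw [← map_zero (germ ξ F V v).hom] at h
    obtain ⟨W, g, w, hw, he⟩ := (germ_eq_iff (F := F) ξ V v _ _).1 h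
    rw [map_zero] at he
    exact ⟨W, g, w.pt, by rw [← hw]; rfl, he⟩
  · rintro ⟨W, g, w, hw, he⟩
    haveI := etale_left g
    obtain ⟨l, hl, -⟩ := Scheme.exists_fac_of_etale_of_isSepClosed g.left v.hom w hw
    let w' : Fib ξ W := Fib.mk l (by rw [← MorphismProperty.Over.w g, ← Category.assoc, hl, Fib.w])
    have hv : w'.map g = v := Fib.ext ((Fib.map_hom g w').trans hl)
    rw [← hv, ← germ_res_apply, he, map_zero]

theorem eq_zero_of_forall {V : X.Etale} (s : ToType (F.obj.obj (op V))) (h : ∀ v, ¬ NZ F s v) : s = 0 :=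
  eq_of_germ F s 0 fun Ω _ _ ξ v => ((germ_eq_zero_iff F s v).2 (h v.pt)).trans (map_zero _).symm

theorem isClosed_of_NZ (hF : SuppClosed F) {V : X.Etale} {s : ToType (F.obj.obj (op V))} {v : V.left}
    (h : NZ F s v) : IsClosed ({V.hom.base v} : Set X) := by
  by_contra hc
  obtain ⟨Ω, _, _, ξ, u, hu⟩ := exists_geometric v
  refine (germ_eq_zero_iff F s u).not.2 (not_not.2 (hu ▸ h)) ?_
  have hξ : ξ.base default = V.hom.base v := by
    rw [← hu]
    exact (congrArg (fun t : Spec (CommRingCat.of Ω) ⟶ X => t.base default) u.w).symm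
  haveI := AddCommGrpCat.subsingleton_of_isZero (hF Ω ξ (hξ.symm ▸ hc))
  exact Subsingleton.elim _ _

theorem finite_NZ [IsNoetherian X] (hF : SuppClosed F) {V : X.Etale} [CompactSpace V.left]
    (s : ToType (F.obj.obj (op V))) : {v : V.left | NZ F s v}.Finite := by
  haveI : AlgebraicGeometry.Etale V.hom := V.prop
  haveI : IsLocallyNoetherian V.left := LocallyOfFiniteType.isLocallyNoetherian (Y := X) V.hom
  haveI : IsNoetherian V.left := ⟨⟩
  let Z : Set V.left := {v | NZ F s v}
  have hopen : IsOpen Zᶜ := isOpen_iff_forall_mem_open.2 fun v hv => by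
    obtain ⟨W, g, w, hw, he⟩ := not_not.1 hv
    haveI := etale_left g
    exact ⟨Set.range g.left.base, fun _ ⟨w', hw'⟩ => not_not.2 ⟨W, g, w', hw', he⟩, g.left.isOpenMap.isOpen_range, w, hw⟩
  have hZ : IsClosed Z := isOpen_compl_iff.1 hopen
  have hpt : ∀ v ∈ Z, closure ({v} : Set V.left) = {v} := fun v hv => by
    refine Set.Subset.antisymm (fun w hw => ?_) subset_closure
    have hsp : v ⤳ w := specializes_iff_mem_closure.2 hw
    have hx : V.hom.base w = V.hom.base v :=
      (isClosed_of_NZ F hF hv).closure_subset_iff.2 subset_rfl (specializes_iff_mem_closure.1 (hsp.map V.hom.continuous))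
    exact (eq_of_specializes_of_etale hsp hx.symm).symm
  obtain ⟨S, hSfin, hSc, hSirr, hSU⟩ := TopologicalSpace.NoetherianSpace.exists_finite_set_isClosed_irreducible hZ
  show Z.Finite
  rw [hSU]
  refine hSfin.sUnion fun T hT => ?_
  obtain ⟨g, hg⟩ := QuasiSober.sober (hSirr T hT) (hSc T hT)
  have hgZ : g ∈ Z := by
    rw [hSU]
    exact ⟨T, hT, hg.mem⟩
  rw [← hg.def, hpt g hgZ]
  exact Set.finite_singleton g

theorem fst_over {V : X.Etale} (x : Pt X) (z : ((EtCoh.bc (ix x)).obj V).left) :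
    V.hom.base ((pullback.fst V.hom (ix x)).base z) = x.1 := by
  have h : (ix x).base ((pullback.snd V.hom (ix x)).base z) = x.1 := by
    have : (ix x).base ((pullback.snd V.hom (ix x)).base z) ∈ Set.range (ix x).base := ⟨_, rfl⟩
    rwa [Scheme.range_fromSpecResidueField, Set.mem_singleton_iff] at this
  exact (congrArg (fun t : pullback V.hom (ix x) ⟶ X => t.base z) pullback.condition).trans h

theorem exists_over {x : Pt X} {V : X.Etale} (w : V.left) (hw : V.hom.base w = x.1) :
    ∃ z : ((EtCoh.bc (ix x)).obj V).left, (pullback.fst V.hom (ix x)).base z = w := by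
  have : w ∈ Set.range (pullback.fst V.hom (ix x)).base := by
    rw [Scheme.Pullback.range_fst, Set.mem_preimage]
    exact (Scheme.range_fromSpecResidueField x.1).symm ▸ hw
  exact this

theorem stalkPull_germ {x : Pt X} {Ω : Type u} [Field Ω] [IsSepClosed Ω]
    (ξ : Spec (CommRingCat.of Ω) ⟶ Spec (X.residueField x.1)) (W : X.Etale) (v : Fib ξ ((EtCoh.bc (ix x)).obj W))
    (s : ToType (F.obj.obj (op W))) :
    (stalkPull (ix x) ξ AddCommGrpCat.{u + 1}).hom.app F (germ (ξ ≫ ix x) F W (v.proj (ix x) ξ) s) =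
      germ ξ ((EtCoh.pull (ix x)).obj F) ((EtCoh.bc (ix x)).obj W) v ((ux F x).hom.app (op W) s) := by
  have e := germ_stalkPull (ix x) ξ AddCommGrpCat.{u + 1} F W (v.proj (ix x) ξ)
  rw [Fib.lift_proj] at e
  rw [← ConcreteCategory.comp_apply, e]
  rfl

theorem ux_eq_zero {x : Pt X} {V : X.Etale} (s : ToType (F.obj.obj (op V)))
    (h : ∀ v : V.left, V.hom.base v = x.1 → ¬ NZ F s v) : (ux F x).hom.app (op V) s = 0 := by
  refine eq_of_germ ((EtCoh.pull (ix x)).obj F) _ _ fun Ω _ _ ξ z => ?_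
  rw [← stalkPull_germ, (germ_eq_zero_iff F s (z.proj (ix x) ξ)).2 (h _ (fst_over x z.pt)), map_zero]
  exact (map_zero _).symm

theorem not_NZ_of_ux {x : Pt X} {V : X.Etale} (s : ToType (F.obj.obj (op V))) (v : V.left)
    (hv : V.hom.base v = x.1) (h : (ux F x).hom.app (op V) s = 0) : ¬ NZ F s v := by
  obtain ⟨z₀, rfl⟩ := exists_over v hv
  obtain ⟨Ω, _, _, ξ, z, rfl⟩ := exists_geometric z₀
  have h1 := stalkPull_germ F ξ V z s
  rw [h] at h1
  have h2 := (ConcreteCategory.bijective_of_isIso ((stalkPull (ix x) ξ AddCommGrpCat.{u + 1}).hom.app F)).1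
    ((h1.trans (map_zero _)).trans (map_zero _).symm)
  exact (germ_eq_zero_iff F s (z.proj (ix x) ξ)).1 h2

/-- The morphism to the product. -/
def toProd : F ⟶ ∏ᶜ fun x : Pt X => K F x := Pi.lift (ux F)

theorem π_toProd (x : Pt X) {V : X.Etale} (s : ToType (F.obj.obj (op V))) :
    (Pi.π (fun x : Pt X => K F x) x).hom.app (op V) ((toProd F).hom.app (op V) s) = (ux F x).hom.app (op V) s :=
  congrArg (fun t : F ⟶ K F x => t.hom.app (op V) s) (Pi.lift_π _ _)

theorem prod_ext {ι : Type u} (G : ι → EtCoh.Ab X) {V : X.Etale} {a b : ToType ((∏ᶜ G).obj.obj (op V))}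
    (h : ∀ x, (Pi.π G x).hom.app (op V) a = (Pi.π G x).hom.app (op V) b) : a = b := by
  let E := sheafToPresheaf X.smallEtaleTopology AddCommGrpCat.{u + 1} ⋙
    (evaluation X.Etaleᵒᵖ AddCommGrpCat.{u + 1}).obj (op V)
  exact Concrete.isLimit_ext _ (isLimitOfPreserves E (productIsProduct G)) a b fun ⟨x⟩ => h x

variable {F}

theorem mono_toProd (hF : SuppClosed F) : Mono (toProd F) := by
  haveI : ∀ V : X.Etaleᵒᵖ, Mono ((toProd F).hom.app V) := fun ⟨V⟩ => by
    rw [AddCommGrpCat.mono_iff_injective, injective_iff_map_eq_zero]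
    intro s hs
    refine eq_zero_of_forall F s fun v hnz => ?_
    let x : Pt X := ⟨V.hom.base v, isClosed_of_NZ F hF hnz⟩
    refine not_NZ_of_ux F (x := x) s v rfl ?_ hnz
    rw [← π_toProd, hs, map_zero]
  haveI : Mono (toProd F).hom := NatTrans.mono_of_mono_app _
  exact (sheafToPresheaf X.smallEtaleTopology AddCommGrpCat.{u + 1}).mono_of_mono_map this

/-- The map from the coproduct to the product. -/
abbrev κ (F : EtCoh.Ab X) : (∐ fun x : Pt X => K F x) ⟶ ∏ᶜ fun x : Pt X => K F x :=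
  DivSeqLib.sigmaToProd fun x : Pt X => K F x

theorem π_κ_self (x : Pt X) {V : X.Etale} (t : ToType ((K F x).obj.obj (op V))) :
    (Pi.π (fun x : Pt X => K F x) x).hom.app (op V)
      ((κ F).hom.app (op V) ((Sigma.ι (fun x : Pt X => K F x) x).hom.app (op V) t)) = t :=
  congrArg (fun a : K F x ⟶ K F x => a.hom.app (op V) t) (DivSeqLib.ι_sigmaToProd_self (fun x : Pt X => K F x) x)

theorem π_κ_ne {x y : Pt X} (h : x ≠ y) {V : X.Etale} (t : ToType ((K F x).obj.obj (op V))) :
    (Pi.π (fun x : Pt X => K F x) y).hom.app (op V)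
      ((κ F).hom.app (op V) ((Sigma.ι (fun x : Pt X => K F x) x).hom.app (op V) t)) = 0 :=
  congrArg (fun a : K F x ⟶ K F y => a.hom.app (op V) t) (DivSeqLib.ι_sigmaToProd_ne (fun x : Pt X => K F x) h)

/-- An open piece of an étale object. -/
def openSub (V : X.Etale) (O : V.left.Opens) : X.Etale :=
  MorphismProperty.Over.mk ⊤ (O.ι ≫ V.hom)
    (MorphismProperty.IsStableUnderComposition.comp_mem _ _ (inferInstanceAs (AlgebraicGeometry.Etale O.ι)) V.prop)

/-- Its inclusion. -/
def openIncl (V : X.Etale) (O : V.left.Opens) : openSub V O ⟶ V := MorphismProperty.Over.homMk O.ι rfl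

theorem exists_affine (V : X.Etale) (y : V.left) :
    ∃ (W : X.Etale) (g : W ⟶ V) (w : W.left), g.left.base w = y ∧ IsAffine W.left := by
  obtain ⟨O, hO, hyO, -⟩ := exists_isAffineOpen_mem_and_subset (show y ∈ (⊤ : V.left.Opens) from trivial)
  exact ⟨openSub V O, openIncl V O, ⟨y, hyO⟩, rfl, hO⟩

variable [IsNoetherian X]

theorem toProd_comp (hF : SuppClosed F) : toProd F ≫ cokernel.π (κ F) = 0 := by
  apply Sheaf.hom_ext
  ext ⟨V⟩ s
  refine res_ext (cokernel (κ F)) _ _ fun y => ?_
  obtain ⟨W, g, w, hw, _⟩ := exists_affine V y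
  refine ⟨W, g, ⟨w, hw⟩, ?_⟩
  let s' := F.obj.map g.op s
  classical
  have hS := finite_NZ F hF s'
  let T : Finset (Pt X) := (hS.toFinset.attach).image
    fun p => ⟨W.hom.base p.1, isClosed_of_NZ F hF (hS.mem_toFinset.1 p.2)⟩
  let c : ToType ((∐ fun x : Pt X => K F x).obj.obj (op W)) :=
    ∑ x ∈ T, (Sigma.ι (fun x : Pt X => K F x) x).hom.app (op W) ((ux F x).hom.app (op W) s')
  have hc : (κ F).hom.app (op W) c = (toProd F).hom.app (op W) s' := by
    refine prod_ext _ fun x => ?_
    rw [π_toProd, map_sum, map_sum]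
    by_cases hx : x ∈ T
    · rw [Finset.sum_eq_single x (fun y _ hyx => π_κ_ne hyx _) (fun h => absurd hx h), π_κ_self]
    · rw [Finset.sum_eq_zero fun y hy => π_κ_ne (fun e : y = x => hx (e ▸ hy)) _]
      refine (ux_eq_zero F s' fun v hv hnz => hx ?_).symm
      exact Finset.mem_image.2 ⟨⟨v, hS.mem_toFinset.2 hnz⟩, Finset.mem_attach _ _, Subtype.ext hv⟩
  rw [← NatTrans.naturality_apply, ← NatTrans.naturality_apply]
  show (cokernel.π (κ F)).hom.app (op W) ((toProd F).hom.app (op W) s') =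
    (0 : F ⟶ cokernel (κ F)).hom.app (op W) s'
  rw [← hc]
  exact congrArg (fun t : (∐ fun x : Pt X => K F x) ⟶ cokernel (κ F) => t.hom.app (op W) c) (cokernel.condition _)

/-- The morphism to the coproduct. -/
def toSum (hF : SuppClosed F) : F ⟶ ∐ fun x : Pt X => K F x :=
  haveI : Mono (κ F) := DivSeqLib.mono_sigmaToProd _
  Abelian.monoLift (κ F) (toProd F) (toProd_comp hF)

theorem toSum_κ (hF : SuppClosed F) : toSum hF ≫ κ F = toProd F :=
  haveI : Mono (κ F) := DivSeqLib.mono_sigmaToProd _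
  Abelian.monoLift_comp (κ F) (toProd F) (toProd_comp hF)

theorem mono_toSum (hF : SuppClosed F) : Mono (toSum hF) := by
  haveI := mono_toProd hF
  haveI : Mono (toSum hF ≫ κ F) := by rw [toSum_κ]; infer_instance
  exact mono_of_mono (toSum hF) (κ F)

theorem injective_κ (V : X.Etale) : Function.Injective ((κ F).hom.app (op V)) := by
  haveI : Mono (κ F) := DivSeqLib.mono_sigmaToProd _
  haveI : Mono ((sheafToPresheaf X.smallEtaleTopology AddCommGrpCat.{u + 1}).map (κ F)) := inferInstance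
  exact (AddCommGrpCat.mono_iff_injective _).1
    (inferInstanceAs (Mono (((sheafToPresheaf X.smallEtaleTopology AddCommGrpCat.{u + 1}).map (κ F)).app (op V))))

theorem finite_fibre {V : X.Etale} [CompactSpace V.left] (x : X) : {v : V.left | V.hom.base v = x}.Finite := by
  haveI : AlgebraicGeometry.Etale V.hom := V.prop
  haveI : LocallyQuasiFinite V.hom := locallyQuasiFinite_of_etale V.hom
  haveI : CompactSpace ↥X := inferInstance
  haveI : QuasiCompact V.hom := @quasiCompact_of_compactSpace V.left X V.hom ‹_› inferInstance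
  exact V.hom.finite_preimage_singleton x


theorem exists_lift_germ {x : Pt X} {V : X.Etale} (t : ToType ((K F x).obj.obj (op V)))
    (z₀ : ((EtCoh.bc (ix x)).obj V).left) :
    ∃ (W : X.Etale) (g : W ⟶ V) (w : ((EtCoh.bc (ix x)).obj W).left) (s : ToType (F.obj.obj (op W))),
      IsAffine W.left ∧ g.left.base ((pullback.fst W.hom (ix x)).base w) = (pullback.fst V.hom (ix x)).base z₀ ∧
      ¬ NZ ((EtCoh.pull (ix x)).obj F) (V := (EtCoh.bc (ix x)).obj W)
        ((ux F x).hom.app (op W) s - (K F x).obj.map g.op t) w := by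
  obtain ⟨Ω, _, _, ξ, z, hz⟩ := exists_geometric z₀
  let p := germ ξ ((EtCoh.pull (ix x)).obj F) ((EtCoh.bc (ix x)).obj V) z t
  obtain ⟨q, hq⟩ := (ConcreteCategory.bijective_of_isIso
    ((stalkPull (ix x) ξ AddCommGrpCat.{u + 1}).hom.app F)).2 p
  obtain ⟨W₀, g₀, v₀, s₀, hv₀, rfl⟩ := exists_germ_below (ξ ≫ ix x) q V (z.proj (ix x) ξ)
  obtain ⟨W, g, w, hw, hW⟩ := exists_affine W₀ v₀.pt
  haveI := etale_left g
  obtain ⟨l, hl, -⟩ := Scheme.exists_fac_of_etale_of_isSepClosed g.left v₀.hom w hw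
  let v : Fib (ξ ≫ ix x) W := Fib.mk l (by rw [← MorphismProperty.Over.w g, ← Category.assoc, hl, Fib.w])
  have hv : v.map g = v₀ := Fib.ext ((Fib.map_hom g v).trans hl)
  have hv' : v.map (g ≫ g₀) = z.proj (ix x) ξ := by
    rw [← hv₀]
    apply Fib.ext
    rw [Fib.map_hom, Fib.map_hom]
    show l ≫ g.left ≫ g₀.left = v₀.hom ≫ g₀.left
    exact (Category.assoc _ _ _).symm.trans (congrArg (· ≫ g₀.left) hl)
  let zW : Fib ξ ((EtCoh.bc (ix x)).obj W) := v.lift (ix x) ξ
  have hzW : zW.map ((EtCoh.bc (ix x)).map (g ≫ g₀)) = z := by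
    rw [← Fib.lift_proj (ix x) ξ (Fib.map ((EtCoh.bc (ix x)).map (g ≫ g₀)) zW), Fib.proj_map, Fib.proj_lift, hv',
      Fib.lift_proj]
  refine ⟨W, g ≫ g₀, zW.pt, F.obj.map g.op s₀, hW, ?_, (germ_eq_zero_iff _ _ zW).1 ?_⟩
  · have h1 := congrArg (fun u => Fib.pt u) hv'
    have h2 := congrArg (fun u => Fib.pt u) (Fib.proj_lift (ix x) ξ v)
    refine (congrArg (g ≫ g₀).left.base h2).trans (h1.trans ?_)
    show (pullback.fst V.hom (ix x)).base z.pt = _
    rw [hz]
  refine (map_sub _ _ _).trans (sub_eq_zero.2 ?_)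
  rw [← stalkPull_germ, Fib.proj_lift]
  refine (congrArg _ (show germ (ξ ≫ ix x) F W v (F.obj.map g.op s₀) = germ (ξ ≫ ix x) F W₀ v₀ s₀ by
    rw [← hv]; exact germ_res_apply _ F g v s₀)).trans (hq.trans ?_)
  show _ = germ ξ ((EtCoh.pull (ix x)).obj F) ((EtCoh.bc (ix x)).obj W) zW
    (((EtCoh.pull (ix x)).obj F).obj.map ((EtCoh.bc (ix x)).map (g ≫ g₀)).op t)
  rw [germ_res_apply, hzW]

theorem isClosed_pt (hF : SuppClosed F) {W : X.Etale} {s : ToType (F.obj.obj (op W))} {x : Pt X} {v : W.left}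
    (hv : W.hom.base v = x.1 ∨ NZ F s v) : IsClosed ({v} : Set W.left) := by
  have hc : IsClosed ({W.hom.base v} : Set X) := by
    rcases hv with h | h
    · rw [h]; exact x.2
    · exact isClosed_of_NZ F hF h
  refine isClosed_of_closure_subset fun w hw => ?_
  have hsp : v ⤳ w := specializes_iff_mem_closure.2 hw
  have hh : W.hom.base w = W.hom.base v :=
    hc.closure_subset_iff.2 subset_rfl (specializes_iff_mem_closure.1 (hsp.map W.hom.continuous))
  exact (eq_of_specializes_of_etale hsp hh.symm).symm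

theorem NZ_res {V W : X.Etale} (i : W ⟶ V) (s : ToType (F.obj.obj (op V))) (w : W.left)
    (h : NZ F (F.obj.map i.op s) w) : NZ F s (i.left.base w) := by
  obtain ⟨Ω, _, _, ξ, u, rfl⟩ := exists_geometric w
  intro hc
  refine ((germ_eq_zero_iff F (F.obj.map i.op s) u).not.2 (not_not.2 h)) ?_
  rw [germ_res_apply, germ_eq_zero_iff]
  exact not_not.2 hc

theorem exists_shrink (hF : SuppClosed F) (x : Pt X) {W : X.Etale} [IsAffine W.left]
    (s : ToType (F.obj.obj (op W))) (v : W.left) :
    ∃ O : W.left.Opens, v ∈ O ∧ ∀ w ∈ O, (W.hom.base w = x.1 ∨ NZ F s w) → w = v := by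
  haveI : CompactSpace ↥W.left := inferInstance
  let bad : Set W.left := {w | (W.hom.base w = x.1 ∨ NZ F s w) ∧ w ≠ v}
  have hbad : bad.Finite :=
    ((finite_fibre (V := W) x.1).union (finite_NZ F hF s)).subset fun w hw => hw.1
  refine ⟨⟨badᶜ, isOpen_compl_iff.2 ?_⟩, fun h => h.2 rfl, fun w hw h => by_contra fun hne => hw ⟨h, hne⟩⟩
  rw [← Set.biUnion_of_singleton bad]
  exact hbad.isClosed_biUnion fun w hw => isClosed_pt hF hw.1

theorem exists_sum_eq (hF : SuppClosed F) {x : Pt X} {V : X.Etale} (t : ToType ((K F x).obj.obj (op V))) (y : V.left) :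
    ∃ (W : X.Etale) (g : W ⟶ V) (w : W.left) (s : ToType (F.obj.obj (op W))), g.left.base w = y ∧
      (toSum hF).hom.app (op W) s = (Sigma.ι (fun x : Pt X => K F x) x).hom.app (op W) ((K F x).obj.map g.op t) := by
  by_cases hy : V.hom.base y = x.1
  · obtain ⟨z₀, rfl⟩ := exists_over y hy
    obtain ⟨W, g, z, s, _, hg, hd⟩ := exists_lift_germ t z₀
    obtain ⟨O, hvO, hO⟩ := exists_shrink hF x s ((pullback.fst W.hom (ix x)).base z)
    let i := openIncl W O
    refine ⟨openSub W O, i ≫ g, ⟨_, hvO⟩, F.obj.map i.op s, hg, injective_κ _ (prod_ext _ fun x' => ?_)⟩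
    have h1 : (κ F).hom.app (op (openSub W O)) ((toSum hF).hom.app (op (openSub W O)) (F.obj.map i.op s)) =
        (toProd F).hom.app (op (openSub W O)) (F.obj.map i.op s) :=
      congrArg (fun t : F ⟶ ∏ᶜ (fun x : Pt X => K F x) => t.hom.app (op (openSub W O)) (F.obj.map i.op s))
        (toSum_κ hF)
    rw [h1, π_toProd]
    by_cases hx : x = x'
    · subst hx
      rw [π_κ_self, op_comp, Functor.map_comp, ConcreteCategory.comp_apply, NatTrans.naturality_apply, ← sub_eq_zero,
        ← map_sub]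
      refine eq_zero_of_forall ((EtCoh.pull (ix x)).obj F) (V := (EtCoh.bc (ix x)).obj (openSub W O)) _ fun u hu => ?_
      have h2 := NZ_res (X := Spec (X.residueField x.1)) ((EtCoh.bc (ix x)).map i) _ u hu
      have e : ((EtCoh.bc (ix x)).map i).left.base u = z := by
        haveI : IsPreimmersion (pullback.fst W.hom (ix x)) :=
          MorphismProperty.pullback_fst (P := @IsPreimmersion) W.hom (ix x)
            (inferInstanceAs (IsPreimmersion (X.fromSpecResidueField x.1)))
        refine (pullback.fst W.hom (ix x)).isEmbedding.injective ?_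
        have e3 : (pullback.fst W.hom (ix x)).base (((EtCoh.bc (ix x)).map i).left.base u) =
            i.left.base ((pullback.fst (openSub W O).hom (ix x)).base u) :=
          congrArg (fun t => t.base u) (EtCoh.isPullback_bc_map (ix x) i).w
        refine e3.trans ?_
        exact hO _ ((pullback.fst (openSub W O).hom (ix x)).base u).2 (Or.inl (fst_over x u))
      rw [e] at h2
      exact hd h2
    · rw [π_κ_ne hx]
      refine ux_eq_zero F _ fun w' hw' hnz => hx ?_
      have hw2 := hO _ w'.2 (Or.inr (NZ_res i s w' hnz))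
      apply Subtype.ext
      rw [← hw', ← fst_over x z]
      exact congrArg W.hom.base hw2.symm
  · let O : V.left.Opens := ⟨V.hom.base ⁻¹' ({x.1} : Set X)ᶜ, x.2.isOpen_compl.preimage V.hom.continuous⟩
    refine ⟨openSub V O, openIncl V O, ⟨y, hy⟩, 0, rfl, ?_⟩
    have h0 : (K F x).obj.map (openIncl V O).op t = 0 := by
      refine eq_of_germ ((EtCoh.pull (ix x)).obj F) (U := (EtCoh.bc (ix x)).obj (openSub V O)) _ _ fun Ω _ _ ξ z => ?_
      have h1 := fst_over x z.pt
      exact absurd h1 ((pullback.fst (openSub V O).hom (ix x)).base z.pt).2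
    rw [map_zero, h0, map_zero]

end SkySumLib

end

namespace SkySumLib

variable {X : Scheme.{u}} [IsNoetherian X] {F : EtCoh.Ab X}

theorem epi_toSum (hF : SuppClosed F) : Epi (toSum hF) := by
  refine Preadditive.epi_of_cokernel_zero (Sigma.hom_ext _ _ fun x => ?_)
  rw [comp_zero]
  apply Sheaf.hom_ext
  ext ⟨V⟩ t
  refine res_ext (cokernel (toSum hF)) _ _ fun y => ?_
  obtain ⟨W, g, w, s, hw, hs⟩ := exists_sum_eq hF t y
  refine ⟨W, g, ⟨w, hw⟩, ?_⟩
  rw [← NatTrans.naturality_apply, ← NatTrans.naturality_apply]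
  show (cokernel.π (toSum hF)).hom.app (op W)
      ((Sigma.ι (fun x : Pt X => K F x) x).hom.app (op W) ((K F x).obj.map g.op t)) =
    (0 : K F x ⟶ cokernel (toSum hF)).hom.app (op W) ((K F x).obj.map g.op t)
  rw [← hs]
  exact congrArg (fun a : F ⟶ cokernel (toSum hF) => a.hom.app (op W) s) (cokernel.condition _)

/-- A sheaf supported in closed points is the sum of its skyscrapers. -/
theorem isIso_toSum (hF : SuppClosed F) : IsIso (toSum hF) := by
  haveI := mono_toSum hF
  haveI := epi_toSum hF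
  exact isIso_of_mono_of_epi _

end SkySumLib
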