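import Groth.Agent.SkySumLib.MaxGm
import Groth.Agent.DivSeqLib.Components

/-!
# Cohomology of `G_m` on reduced noetherian schemes of dimension at most one
-/

set_option autoImplicit false
set_option linter.style.haveILetI false
set_option linter.unusedSectionVars false
set_option backward.isDefEq.respectTransparency false
set_option backward.isDefEq.respectTransparency.types false
set_option synthInstance.maxHeartbeats 400000
set_option maxHeartbeats 1000000

universe u

open CategoryTheory CategoryTheory.Limits CategoryTheory.Abelian AlgebraicGeometry Opposite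
open Groth.Agent.EtShLib

noncomputable section

namespace SkySumLib

variable (X : Scheme.{u}) [IsNoetherian X]

/-- The maximal points. -/
abbrev MPt : Type u := {x : X // DivSeqLib.IsMaxPt x}

instance : Finite (MPt X) := (DivSeqLib.finite_maxPts (X := X)).to_subtype

/-- The product of the `x_* G_m` over the maximal points. -/
abbrev PGm : EtCoh.Ab X := ⨁ fun x : MPt X => KGm x.1

/-- The map from `G_m`. -/
abbrev φmax : EtCoh.Gm X ⟶ PGm X := biproduct.lift fun x : MPt X => φGm x.1

theorem isIso_stk_φmax [IsReduced X] {Ω : Type u} [Field Ω] [IsSepClosed Ω] (ξ : Spec (CommRingCat.of Ω) ⟶ X)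
    (hmax : ∀ y : X, y ⤳ ξ.base default → y = ξ.base default) :
    IsIso ((stk (A := AddCommGrpCat.{u + 1}) ξ).map (φmax X)) := by
  classical
  haveI : Fintype (MPt X) := Fintype.ofFinite _
  let x₀ : MPt X := ⟨ξ.base default, hmax⟩
  let S := stk (A := AddCommGrpCat.{u + 1}) ξ
  let π := biproduct.π (fun x : MPt X => KGm x.1) x₀
  let ι := biproduct.ι (fun x : MPt X => KGm x.1) x₀
  haveI : IsIso (S.map π) := by
    refine ⟨S.map ι, ?_, ?_⟩
    · have h1 : ∀ y : MPt X, y ≠ x₀ →
          S.map (biproduct.π (fun x : MPt X => KGm x.1) y ≫ biproduct.ι (fun x : MPt X => KGm x.1) y) = 0 :=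
        fun y hy => by
          have h0 : IsZero (S.obj (KGm y.1)) := isZero_stk_KGm ξ fun h => hy (Subtype.ext (hmax _ h))
          rw [Functor.map_comp, h0.eq_of_tgt (S.map _) 0, zero_comp]
      have h2 := congrArg (fun t => S.map t) (IsBilimit.total (biproduct.isBilimit fun x : MPt X => KGm x.1))
      simp only [Functor.map_sum, CategoryTheory.Functor.map_id] at h2
      rw [Finset.sum_eq_single x₀ (fun y _ hy => h1 y hy) (fun h => absurd (Finset.mem_univ _) h),
        Functor.map_comp] at h2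
      exact h2
    · rw [← Functor.map_comp, biproduct.ι_π_self, CategoryTheory.Functor.map_id]
  haveI : IsIso (S.map (φmax X) ≫ S.map π) := by
    rw [← Functor.map_comp, biproduct.lift_π]
    exact (ConcreteCategory.isIso_iff_bijective _).2
      ⟨injective_stk_φGm hmax ξ rfl, surjective_stk_φGm hmax ξ rfl⟩
  exact IsIso.of_isIso_comp_right (S.map (φmax X)) (S.map π)

theorem suppClosed_φmax [IsReduced X] (hdim : topologicalKrullDim X ≤ 1) :
    SuppClosed (kernel (φmax X)) ∧ SuppClosed (cokernel (φmax X)) :=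
  suppClosed_ker_coker hdim _ fun Ω _ _ ξ h =>
    isIso_stk_φmax X ξ (h _ ⟨default, rfl⟩)

variable {X}

theorem comp_eq_sum [Fintype (MPt X)] {n : ℕ} (z : EtCoh.H X (PGm X) n) :
    z = ∑ x : MPt X, ((EtCoh.HF X n).map (biproduct.ι (fun x : MPt X => KGm x.1) x))
      ((EtCoh.HF X n).map (biproduct.π (fun x : MPt X => KGm x.1) x) z) := by
  classical
  haveI : (EtCoh.HF X n).Additive := ⟨fun {A B f g} => by
    ext t
    show Ext.comp t (Ext.mk₀ (f + g)) (add_zero n) = Ext.comp t (Ext.mk₀ f) (add_zero n) + Ext.comp t (Ext.mk₀ g) (add_zero n)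
    rw [Ext.mk₀_add, Ext.comp_add]⟩
  have h2 := congrArg (fun t => (EtCoh.HF X n).map t) (IsBilimit.total (biproduct.isBilimit fun x : MPt X => KGm x.1))
  simp only [Functor.map_sum, Functor.map_comp, CategoryTheory.Functor.map_id] at h2
  have h3 := congrArg (fun t => t.hom z) h2
  simp only [AddCommGrpCat.hom_id, AddMonoidHom.id_apply] at h3
  refine h3.symm.trans ?_
  have hs : ∀ (s : Finset (MPt X)) (f : MPt X → ((EtCoh.HF X n).obj (PGm X) ⟶ (EtCoh.HF X n).obj (PGm X))),
      (∑ i ∈ s, f i).hom z = ∑ i ∈ s, (f i).hom z := fun s f => by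
    induction s using Finset.induction_on with
    | empty => rw [Finset.sum_empty, Finset.sum_empty]; rfl
    | insert a s ha ih =>
      rw [Finset.sum_insert ha, Finset.sum_insert ha, ← ih]
      rfl
  exact hs _ _

theorem subsingleton_H_PGm (n : ℕ) (h : ∀ x : MPt X, Subsingleton (EtCoh.H X (KGm x.1) n)) :
    Subsingleton (EtCoh.H X (PGm X) n) := by
  haveI : Fintype (MPt X) := Fintype.ofFinite _
  refine subsingleton_of_forall_eq 0 fun z => ?_
  rw [comp_eq_sum z]
  refine Finset.sum_eq_zero fun x _ => ?_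
  rw [show ((EtCoh.HF X n).map (biproduct.π (fun x : MPt X => KGm x.1) x)) z = 0 from
    (h x).elim _ _, map_zero]

theorem subsingleton_H_Gm_curve [IsReduced X] (hdim : topologicalKrullDim X ≤ 1)
    (hsep : ∀ x : Pt X, IsSepClosed (X.residueField x.1)) (q : ℕ) (hq : 2 ≤ q)
    (h : ∀ x : MPt X, Subsingleton (EtCoh.H X (KGm x.1) q)) : Subsingleton (EtCoh.H X (EtCoh.Gm X) q) := by
  obtain ⟨hk, hc⟩ := suppClosed_φmax X hdim
  haveI := (bijective_map_of_suppClosed (φmax X) hsep hk hc).1 q hq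
  haveI := subsingleton_H_PGm q h
  exact ⟨fun a b => (ConcreteCategory.bijective_of_isIso ((EtCoh.HF X q).map (φmax X))).1
    (Subsingleton.elim (α := EtCoh.H X (PGm X) q) _ _)⟩

theorem isOfFinAddOrder_H_of_suppClosed {C : Scheme.{u}} [IsNoetherian C] {F G : EtCoh.Ab C} (φ : F ⟶ G)
    (hk : SuppClosed (kernel φ)) (hc : SuppClosed (cokernel φ)) (n : ℕ) (z : EtCoh.H C F (n + 2))
    (h : IsOfFinAddOrder (((EtCoh.HF C (n + 2)).map φ) z)) : IsOfFinAddOrder z := by
  let S1 : ShortComplex (EtCoh.Ab C) := ShortComplex.mk (kernel.ι φ) (Abelian.factorThruImage φ)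
    ((cancel_mono (Abelian.image.ι φ)).1 (by rw [Category.assoc, Abelian.image.fac, kernel.condition, zero_comp]))
  let S2 : ShortComplex (EtCoh.Ab C) := ShortComplex.mk (Abelian.image.ι φ) (cokernel.π φ) (kernel.condition _)
  have hS1 : S1.ShortExact :=
    { exact := by
        refine ShortComplex.exact_of_f_is_kernel _ ?_
        exact KernelFork.IsLimit.ofι' _ _ fun g hg =>
          ⟨kernel.lift φ g (by rw [← Abelian.image.fac φ, ← Category.assoc, hg, zero_comp]), kernel.lift_ι _ _ _⟩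
      mono_f := inferInstanceAs (Mono (kernel.ι φ))
      epi_g := inferInstanceAs (Epi (Abelian.factorThruImage φ)) }
  have hS2 : S2.ShortExact :=
    { exact := ShortComplex.exact_of_f_is_kernel _ (kernelIsKernel _)
      mono_f := inferInstanceAs (Mono (Abelian.image.ι φ))
      epi_g := inferInstanceAs (Epi (cokernel.π φ)) }
  let g1 := ((EtCoh.HF C (n + 2)).map S1.g).hom
  let g2 := ((EtCoh.HF C (n + 2)).map S2.f).hom
  have e : ((EtCoh.HF C (n + 2)).map φ) z = g2 (g1 z) := by
    have e' : (EtCoh.HF C (n + 2)).map φ = (EtCoh.HF C (n + 2)).map S1.g ≫ (EtCoh.HF C (n + 2)).map S2.f := by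
      rw [← Functor.map_comp]
      exact congrArg _ (Abelian.image.fac φ).symm
    exact congrArg (fun t => t.hom z) e'
  obtain ⟨a, ha, haz⟩ := isOfFinAddOrder_iff_nsmul_eq_zero.1 h
  rw [e, ← map_nsmul g2, ← map_nsmul g1] at haz
  obtain ⟨w, hw⟩ := Ext.covariant_sequence_exact₁ _ hS2 (g1 (a • z)) haz (n₀ := n + 1) rfl
  obtain ⟨b, hb, hbw⟩ := isOfFinAddOrder_iff_nsmul_eq_zero.1 (isOfFinAddOrder_H hc n w)
  have hb0 : g1 (b • (a • z)) = 0 := by
    rw [map_nsmul]
    refine (congrArg (b • ·) hw.symm).trans ?_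
    let D : EtCoh.H C S2.X₃ (n + 1) →+ EtCoh.H C S2.X₁ (n + 2) :=
      AddMonoidHom.mk' (fun t => t.comp hS2.extClass rfl) fun s t => by rw [Ext.add_comp]
    exact (map_nsmul D b w).symm.trans ((congrArg D hbw).trans (map_zero D))
  obtain ⟨v, hv⟩ := Ext.covariant_sequence_exact₂ _ hS1 (b • (a • z)) hb0
  have hvt : IsOfFinAddOrder (b • (a • z)) := hv ▸ isOfFinAddOrder_comp S1.f (isOfFinAddOrder_H hk (n + 1) v)
  obtain ⟨c, hcp, hcz⟩ := isOfFinAddOrder_iff_nsmul_eq_zero.1 hvt
  exact isOfFinAddOrder_iff_nsmul_eq_zero.2 ⟨c * (b * a), Nat.mul_pos hcp (Nat.mul_pos hb ha), by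
    rw [mul_smul, mul_smul]; exact hcz⟩

theorem isOfFinAddOrder_H_Gm [IsReduced X] (hdim : topologicalKrullDim X ≤ 1) (n : ℕ)
    (z : EtCoh.H X (EtCoh.Gm X) (n + 2)) : IsOfFinAddOrder z := by
  obtain ⟨hk, hc⟩ := suppClosed_φmax X hdim
  refine isOfFinAddOrder_H_of_suppClosed (φmax X) hk hc n z ?_
  haveI : Fintype (MPt X) := Fintype.ofFinite _
  rw [comp_eq_sum ((EtCoh.HF X (n + 2)).map (φmax X) z)]
  refine isOfFinAddOrder_sum _ _ fun x _ => ?_
  refine ((EtCoh.HF X (n + 2)).map (biproduct.ι (fun x : MPt X => KGm x.1) x)).hom.isOfFinAddOrder ?_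
  haveI : QuasiCompact (X.fromSpecResidueField x.1) := quasiCompact_of_compactSpace _
  exact EtTransferLib.isOfFinAddOrder_H_push (k := X.residueField x.1) (X.fromSpecResidueField x.1) (n + 1) _ _

end SkySumLib

end
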