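import Groth.Agent.SkySumLib.MaxUnit
import Groth.Agent.SkySumLib.MaxMain

/-!
# Cohomology of any abelian sheaf on a noetherian scheme of dimension at most one is torsion from degree two on
-/

set_option autoImplicit false
set_option linter.style.haveILetI false
set_option linter.unusedSectionVars false
set_option backward.isDefEq.respectTransparency false
set_option backward.isDefEq.respectTransparency.types false
set_option synthInstance.maxHeartbeats 400000
set_option maxHeartbeats 1000000

universe u

open CategoryTheory CategoryTheory.Limits CategoryTheory.Abelian AlgebraicGeometry Opposite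
open Groth.Agent.EtShLib

noncomputable section

namespace SkySumLib

variable (X : Scheme.{u}) [IsNoetherian X] (F : EtCoh.Ab X)

/-- The map into the skyscrapers at the maximal points. -/
abbrev uMax : F ⟶ ⨁ fun x : MPt X => KP F x.1 := biproduct.lift fun x : MPt X => uP F x.1

theorem isIso_stk_uMax {Ω : Type u} [Field Ω] [IsSepClosed Ω] (ξ : Spec (CommRingCat.of Ω) ⟶ X)
    (hmax : ∀ y : X, y ⤳ ξ.base default → y = ξ.base default) :
    IsIso ((stk (A := AddCommGrpCat.{u + 1}) ξ).map (uMax X F)) := by
  classical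
  haveI : Fintype (MPt X) := Fintype.ofFinite _
  let x₀ : MPt X := ⟨ξ.base default, hmax⟩
  let S := stk (A := AddCommGrpCat.{u + 1}) ξ
  let π := biproduct.π (fun x : MPt X => KP F x.1) x₀
  let ι := biproduct.ι (fun x : MPt X => KP F x.1) x₀
  haveI : IsIso (S.map π) := by
    refine ⟨S.map ι, ?_, ?_⟩
    · have h1 : ∀ y : MPt X, y ≠ x₀ →
          S.map (biproduct.π (fun x : MPt X => KP F x.1) y ≫ biproduct.ι (fun x : MPt X => KP F x.1) y) = 0 :=
        fun y hy => by
          have h0 : IsZero (S.obj (KP F y.1)) := isZero_stk_KP F ξ fun h => hy (Subtype.ext (hmax _ h))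
          rw [Functor.map_comp, h0.eq_of_tgt (S.map _) 0, zero_comp]
      have h2 := congrArg (fun t => S.map t) (IsBilimit.total (biproduct.isBilimit fun x : MPt X => KP F x.1))
      simp only [Functor.map_sum, CategoryTheory.Functor.map_id] at h2
      rw [Finset.sum_eq_single x₀ (fun y _ hy => h1 y hy) (fun h => absurd (Finset.mem_univ _) h),
        Functor.map_comp] at h2
      exact h2
    · rw [← Functor.map_comp, biproduct.ι_π_self, CategoryTheory.Functor.map_id]
  haveI : IsIso (S.map (uMax X F) ≫ S.map π) := by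
    rw [← Functor.map_comp, biproduct.lift_π]
    exact (ConcreteCategory.isIso_iff_bijective _).2 (bijective_stk_uP F x₀.1 ξ rfl)
  exact IsIso.of_isIso_comp_right (S.map (uMax X F)) (S.map π)

/-- `H^{n+2}(X, F)` is torsion. -/
theorem isOfFinAddOrder_H_dim_one (hdim : topologicalKrullDim X ≤ 1) (n : ℕ)
    (z : EtCoh.H X F (n + 2)) : IsOfFinAddOrder z := by
  classical
  obtain ⟨hk, hc⟩ := suppClosed_ker_coker hdim (uMax X F) fun Ω _ _ ξ h => isIso_stk_uMax X F ξ (h _ ⟨default, rfl⟩)
  refine isOfFinAddOrder_H_of_suppClosed (uMax X F) hk hc n z ?_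
  haveI : Fintype (MPt X) := Fintype.ofFinite _
  haveI : (EtCoh.HF X (n + 2)).Additive := ⟨fun {A B f g} => by
    ext t
    show Ext.comp t (Ext.mk₀ (f + g)) (add_zero (n + 2)) =
      Ext.comp t (Ext.mk₀ f) (add_zero (n + 2)) + Ext.comp t (Ext.mk₀ g) (add_zero (n + 2))
    rw [Ext.mk₀_add, Ext.comp_add]⟩
  generalize ((EtCoh.HF X (n + 2)).map (uMax X F)) z = w
  have h2 := congrArg (fun t => (EtCoh.HF X (n + 2)).map t)
    (IsBilimit.total (biproduct.isBilimit fun x : MPt X => KP F x.1))
  simp only [Functor.map_sum, Functor.map_comp, CategoryTheory.Functor.map_id] at h2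
  have h3 : (∑ x : MPt X, (EtCoh.HF X (n + 2)).map (biproduct.π (fun x : MPt X => KP F x.1) x) ≫
      (EtCoh.HF X (n + 2)).map (biproduct.ι (fun x : MPt X => KP F x.1) x)).hom w = w :=
    congrArg (fun t => t.hom w) h2
  rw [← h3]
  have hs : ∀ (s : Finset (MPt X)) (f : MPt X → ((EtCoh.HF X (n + 2)).obj (⨁ fun x : MPt X => KP F x.1) ⟶
      (EtCoh.HF X (n + 2)).obj (⨁ fun x : MPt X => KP F x.1))),
      (∀ i ∈ s, IsOfFinAddOrder ((f i).hom w)) → IsOfFinAddOrder ((∑ i ∈ s, f i).hom w) := fun s f => by
    induction s using Finset.induction_on with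
    | empty =>
      intro _
      rw [Finset.sum_empty]
      exact IsOfFinAddOrder.zero
    | insert a s ha ih =>
      intro hf
      rw [Finset.sum_insert ha]
      exact (hf a (Finset.mem_insert_self a s)).add (ih fun i hi => hf i (Finset.mem_insert_of_mem hi))
  refine hs _ _ fun x _ => ?_
  refine ((EtCoh.HF X (n + 2)).map (biproduct.ι (fun x : MPt X => KP F x.1) x)).hom.isOfFinAddOrder ?_
  haveI : QuasiCompact (X.fromSpecResidueField x.1) := quasiCompact_of_compactSpace _
  exact EtTransferLib.isOfFinAddOrder_H_push (k := X.residueField x.1) (X.fromSpecResidueField x.1) (n + 1) _ _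

end SkySumLib

end
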