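import Groth.Agent.SkySumLib.Cohom
import Groth.Agent.FinPicLib.Topo

/-!
# Sheaves on curves vanishing at the maximal points
-/

set_option autoImplicit false
set_option linter.style.haveILetI false
set_option linter.unusedSectionVars false
set_option backward.isDefEq.respectTransparency false
set_option backward.isDefEq.respectTransparency.types false
set_option maxHeartbeats 1000000

universe u

open CategoryTheory CategoryTheory.Limits AlgebraicGeometry Opposite
open Groth.Agent.EtShLib

noncomputable section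

namespace SkySumLib

theorem isMax_of_not_isClosed {X : Scheme.{u}} (hdim : topologicalKrullDim X ≤ 1) {x : X}
    (hx : ¬ IsClosed ({x} : Set X)) (y : X) (h : y ⤳ x) : y = x := by
  by_contra hne
  obtain ⟨w, hw, hwx⟩ : ∃ w, x ⤳ w ∧ w ≠ x := by
    by_contra! hcon
    exact hx (isClosed_of_closure_subset fun w hw => hcon w (specializes_iff_mem_closure.2 hw))
  have hx' : ¬ FinPicLib.IsGen x := fun hg => hne (hg y h)
  exact hwx (FinPicLib.eq_of_specializes_of_not_isGen hdim hx' hw).symm

theorem range_eq_singleton {X : Scheme.{u}} {Ω : Type u} [Field Ω] (ξ : Spec (CommRingCat.of Ω) ⟶ X) :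
    Set.range ξ.base = {ξ.base default} := Set.range_unique

theorem suppClosed_of_isZero_at_max {X : Scheme.{u}} (hdim : topologicalKrullDim X ≤ 1) (F : EtCoh.Ab X)
    (hgen : ∀ (Ω : Type u) [Field Ω] [IsSepClosed Ω] (ξ : Spec (CommRingCat.of Ω) ⟶ X),
      (∀ x ∈ Set.range ξ.base, ∀ y : X, y ⤳ x → y = x) → IsZero ((stk (A := AddCommGrpCat.{u + 1}) ξ).obj F)) :
    SuppClosed F := fun Ω _ _ ξ h => hgen Ω ξ fun x hx y hy => by
  rw [range_eq_singleton] at hx
  rw [hx] at hy ⊢
  exact isMax_of_not_isClosed hdim h y hy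

end SkySumLib

end

noncomputable section

namespace SkySumLib

open CategoryTheory.Abelian

variable {C : Scheme.{u}}

theorem bijective_comp_of_shortExact {S : ShortComplex (EtCoh.Ab C)} (hS : S.ShortExact) (q : ℕ)
    (h1 : Subsingleton (EtCoh.H C S.X₁ q)) (h2 : Subsingleton (EtCoh.H C S.X₁ (q + 1))) :
    Function.Bijective ((EtCoh.HF C q).map S.g) := by
  constructor
  · rw [injective_iff_map_eq_zero]
    intro y hy
    obtain ⟨w, hw⟩ := Ext.covariant_sequence_exact₂ _ hS y hy
    rw [← hw, h1.elim w 0, Ext.zero_comp]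
  · intro z
    exact Ext.covariant_sequence_exact₃ _ hS z rfl (h2.elim _ _)

theorem bijective_comp_of_shortExact' {S : ShortComplex (EtCoh.Ab C)} (hS : S.ShortExact) (q : ℕ)
    (h1 : Subsingleton (EtCoh.H C S.X₃ q)) (h2 : Subsingleton (EtCoh.H C S.X₃ (q + 1))) :
    Function.Bijective ((EtCoh.HF C (q + 1)).map S.f) := by
  constructor
  · rw [injective_iff_map_eq_zero]
    intro y hy
    obtain ⟨w, hw⟩ := Ext.covariant_sequence_exact₁ _ hS y hy rfl
    rw [← hw, h1.elim w 0, Ext.zero_comp]
  · intro z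
    exact Ext.covariant_sequence_exact₂ _ hS z (h2.elim _ _)

theorem bijective_map_of_suppClosed {F G : EtCoh.Ab C} (φ : F ⟶ G) [IsNoetherian C]
    (hsep : ∀ x : Pt C, IsSepClosed (C.residueField x.1))
    (hk : SuppClosed (kernel φ)) (hc : SuppClosed (cokernel φ)) :
    (∀ q : ℕ, 1 < q → IsIso ((EtCoh.HF C q).map φ)) ∧ (Epi φ → IsIso ((EtCoh.HF C 1).map φ)) := by
  let S1 : ShortComplex (EtCoh.Ab C) := ShortComplex.mk (kernel.ι φ) (Abelian.factorThruImage φ)
    ((cancel_mono (Abelian.image.ι φ)).1 (by rw [Category.assoc, Abelian.image.fac, kernel.condition, zero_comp]))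
  let S2 : ShortComplex (EtCoh.Ab C) := ShortComplex.mk (Abelian.image.ι φ) (cokernel.π φ) (kernel.condition _)
  have hS1 : S1.ShortExact :=
    { exact := by
        refine ShortComplex.exact_of_f_is_kernel _ ?_
        exact KernelFork.IsLimit.ofι' _ _ fun g hg =>
          ⟨kernel.lift φ g (by rw [← Abelian.image.fac φ, ← Category.assoc, hg, zero_comp]), kernel.lift_ι _ _ _⟩
      mono_f := inferInstanceAs (Mono (kernel.ι φ))
      epi_g := inferInstanceAs (Epi (Abelian.factorThruImage φ)) }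
  have hS2 : S2.ShortExact :=
    { exact := ShortComplex.exact_of_f_is_kernel _ (kernelIsKernel _)
      mono_f := inferInstanceAs (Mono (Abelian.image.ι φ))
      epi_g := inferInstanceAs (Epi (cokernel.π φ)) }
  have e : ∀ q : ℕ, (EtCoh.HF C q).map φ = (EtCoh.HF C q).map S1.g ≫ (EtCoh.HF C q).map S2.f := fun q => by
    rw [← Functor.map_comp]
    exact congrArg _ (Abelian.image.fac φ).symm
  have b1 : ∀ q : ℕ, 0 < q → IsIso ((EtCoh.HF C q).map S1.g) := fun q hq =>
    (ConcreteCategory.isIso_iff_bijective _).2 (bijective_comp_of_shortExact hS1 q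
      (subsingleton_H hk hsep q hq) (subsingleton_H hk hsep (q + 1) q.succ_pos))
  refine ⟨fun q hq => ?_, fun hepi => ?_⟩
  · haveI := b1 q (by omega)
    obtain ⟨m, rfl⟩ : ∃ m, q = m + 1 := ⟨q - 1, by omega⟩
    haveI : IsIso ((EtCoh.HF C (m + 1)).map S2.f) :=
      (ConcreteCategory.isIso_iff_bijective _).2 (bijective_comp_of_shortExact' hS2 m
        (subsingleton_H hc hsep m (by omega)) (subsingleton_H hc hsep (m + 1) m.succ_pos))
    rw [e]
    infer_instance
  · haveI := b1 1 one_pos
    haveI : Epi (Abelian.image.ι φ) := epi_of_epi_fac (Abelian.image.fac φ)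
    haveI : IsIso S2.f := isIso_of_mono_of_epi (Abelian.image.ι φ)
    rw [e]
    infer_instance

theorem suppClosed_ker_coker (hdim : topologicalKrullDim C ≤ 1) {F G : EtCoh.Ab C} (φ : F ⟶ G)
    (hgen : ∀ (Ω : Type u) [Field Ω] [IsSepClosed Ω] (ξ : Spec (CommRingCat.of Ω) ⟶ C),
      (∀ x ∈ Set.range ξ.base, ∀ y : C, y ⤳ x → y = x) → IsIso ((stk (A := AddCommGrpCat.{u + 1}) ξ).map φ)) :
    SuppClosed (kernel φ) ∧ SuppClosed (cokernel φ) := by
  constructor <;> refine suppClosed_of_isZero_at_max hdim _ fun Ω _ _ ξ h => ?_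
  · haveI := hgen Ω ξ h
    exact IsZero.of_iso (isZero_kernel_of_mono _) (PreservesKernel.iso (stk (A := AddCommGrpCat.{u + 1}) ξ) φ)
  · haveI := hgen Ω ξ h
    exact IsZero.of_iso (isZero_cokernel_of_epi _) (PreservesCokernel.iso (stk (A := AddCommGrpCat.{u + 1}) ξ) φ)

end SkySumLib

end
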