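import Groth.Agent.SkySumLib.Curve
import Groth.Agent.AlgSpLib.ReducedStalk
import Groth.Agent.DivSeqLib.Basic

/-!
# `G_m → x_* G_m` at maximal points of a reduced scheme
-/

set_option autoImplicit false
set_option linter.style.haveILetI false
set_option linter.unusedSectionVars false
set_option backward.isDefEq.respectTransparency false
set_option backward.isDefEq.respectTransparency.types false
set_option synthInstance.maxHeartbeats 400000
set_option maxHeartbeats 2000000

universe u

open CategoryTheory CategoryTheory.Limits AlgebraicGeometry Opposite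
open Groth.Agent.EtShLib MuConstLib

noncomputable section

namespace SkySumLib

variable {X : Scheme.{u}}

/-- `x_* G_m`. -/
abbrev KGm (x : X) : EtCoh.Ab X :=
  (EtCoh.push (X.fromSpecResidueField x)).obj (EtCoh.Gm (Spec (X.residueField x)))

/-- `G_m → x_* G_m`. -/
abbrev φGm (x : X) : EtCoh.Gm X ⟶ KGm x := EtLim.GmPush (X.fromSpecResidueField x)

theorem germ_appLE {A B : Scheme.{u}} (f : A ⟶ B) (O : B.Opens) (e : ⊤ ≤ f ⁻¹ᵁ O) (z : A) (a : Γ(B, O)) :
    A.presheaf.germ ⊤ z trivial (f.appLE O ⊤ e a) = f.stalkMap z (B.presheaf.germ O (f.base z) (e trivial) a) := by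
  rw [Scheme.Hom.germ_stalkMap_apply, Scheme.Hom.appLE, ConcreteCategory.comp_apply, TopCat.Presheaf.germ_res_apply]

theorem germ_appTop {A B : Scheme.{u}} (f : A ⟶ B) (z : A) (a : Γ(B, ⊤)) :
    A.presheaf.germ ⊤ z trivial (f.appTop a) = f.stalkMap z (B.presheaf.germ ⊤ (f.base z) trivial a) :=
  (Scheme.Hom.germ_stalkMap_apply f ⊤ z trivial a).symm

theorem fibre_over {x : X} {V : X.Etale} (z : ↥(pullback V.hom (X.fromSpecResidueField x))) :
    V.hom.base ((pullback.fst V.hom (X.fromSpecResidueField x)).base z) = x := by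
  have h : (X.fromSpecResidueField x).base ((pullback.snd V.hom (X.fromSpecResidueField x)).base z) = x := by
    have : (X.fromSpecResidueField x).base ((pullback.snd V.hom (X.fromSpecResidueField x)).base z) ∈
        Set.range (X.fromSpecResidueField x).base := ⟨_, rfl⟩
    rwa [Scheme.range_fromSpecResidueField, Set.mem_singleton_iff] at this
  exact (congrArg (fun t : pullback V.hom (X.fromSpecResidueField x) ⟶ X => t.base z) pullback.condition).trans h

theorem exists_fibre {x : X} {V : X.Etale} (w : V.left) (hw : V.hom.base w = x) :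
    ∃ z : ↥(pullback V.hom (X.fromSpecResidueField x)), (pullback.fst V.hom (X.fromSpecResidueField x)).base z = w := by
  have : w ∈ Set.range (pullback.fst V.hom (X.fromSpecResidueField x)).base := by
    rw [Scheme.Pullback.range_fst, Set.mem_preimage]
    exact (Scheme.range_fromSpecResidueField x).symm ▸ hw
  exact this

theorem fib_pt_over {x : X} {V : X.Etale} {Ω : Type u} [Field Ω] [IsSepClosed Ω]
    {ξ : Spec (CommRingCat.of Ω) ⟶ X} (hξ : ξ.base default = x) (v : Fib ξ V) : V.hom.base v.pt = x := by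
  rw [← hξ]
  exact congrArg (fun t : Spec (CommRingCat.of Ω) ⟶ X => t.base default) v.w

theorem isPreimmersion_fst (x : X) (V : X.Etale) : IsPreimmersion (pullback.fst V.hom (X.fromSpecResidueField x)) :=
  MorphismProperty.pullback_fst (P := @IsPreimmersion) V.hom (X.fromSpecResidueField x)
    (inferInstanceAs (IsPreimmersion (X.fromSpecResidueField x)))

theorem isMax_over {x : X} (hmax : ∀ y, y ⤳ x → y = x) {V : X.Etale} (v : V.left) (hv : V.hom.base v = x)
    (v' : V.left) (h : v' ⤳ v) : v' = v := by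
  haveI : AlgebraicGeometry.Etale V.hom := V.prop
  have h' : V.hom.base v' = V.hom.base v := by
    rw [hv]
    exact hmax _ (hv ▸ h.map V.hom.continuous)
  exact eq_of_specializes_of_etale h h'

theorem isField_stalk [IsLocallyNoetherian X] [IsReduced X] {x : X} (hmax : ∀ y, y ⤳ x → y = x) {V : X.Etale}
    (v : V.left) (hv : V.hom.base v = x) : IsField (V.left.presheaf.stalk v) := by
  let f : V.left ⟶ X := V.hom
  haveI : AlgebraicGeometry.Etale f := V.prop
  haveI : _root_.IsReduced (X.presheaf.stalk (f.base v)) := inferInstance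
  haveI : _root_.IsReduced (V.left.presheaf.stalk v) := AlgSpLib.isReduced_stalk_of_smooth f v
  let S := V.left.presheaf.stalk v
  have hall : ∀ p : PrimeSpectrum S, p = IsLocalRing.closedPoint S := fun p => by
    refine (V.left.fromSpecStalk v).isEmbedding.injective ?_
    rw [Scheme.fromSpecStalk_closedPoint]
    refine isMax_over hmax v hv _ ?_
    have : (V.left.fromSpecStalk v).base p ∈ Set.range (V.left.fromSpecStalk v).base := ⟨p, rfl⟩
    rwa [Scheme.range_fromSpecStalk] at this
  rw [IsLocalRing.isField_iff_maximalIdeal_eq, ← le_bot_iff, ← Submodule.zero_eq_bot, ← nilradical_eq_zero S,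
    nilradical_eq_sInf]
  refine le_sInf fun J hJ => ?_
  exact le_of_eq (congrArg PrimeSpectrum.asIdeal (hall ⟨J, hJ⟩)).symm

theorem injective_stk_φGm [IsLocallyNoetherian X] [IsReduced X] {x : X} (hmax : ∀ y, y ⤳ x → y = x)
    {Ω : Type u} [Field Ω] [IsSepClosed Ω] (ξ : Spec (CommRingCat.of Ω) ⟶ X) (hξ : ξ.base default = x) :
    Function.Injective ((stk (A := AddCommGrpCat.{u + 1}) ξ).map (φGm x)) := by
  rw [injective_iff_map_eq_zero]
  intro p hp
  obtain ⟨V, v, s, rfl⟩ := exists_germ (A := AddCommGrpCat.{u + 1}) ξ p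
  rw [germ_natural_apply] at hp
  rw [← map_zero (germ ξ (KGm x) V v).hom] at hp
  obtain ⟨W, g, w, hw, he⟩ := (germ_eq_iff (F := KGm x) ξ V v _ _).1 hp
  rw [map_zero, ← NatTrans.naturality_apply] at he
  rw [← hw, ← germ_res_apply]
  generalize (EtCoh.Gm X).obj.map g.op s = s' at he ⊢
  have hwx : W.hom.base w.pt = x := fib_pt_over hξ w
  obtain ⟨z, hz⟩ := exists_fibre w.pt hwx
  let q : pullback W.hom (X.fromSpecResidueField x) ⟶ W.left := pullback.fst W.hom (X.fromSpecResidueField x)
  have hg1 : q.appTop (gmVal X s') = 1 := congrArg (gmVal (Spec (X.residueField x))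
    (W := (EtCoh.bc (X.fromSpecResidueField x)).obj W)) he
  have hgerm : W.left.presheaf.germ ⊤ (q.base z) trivial (gmVal X s') = 1 := by
    letI := (isField_stalk (V := W) hmax (q.base z) (fibre_over z)).toField
    refine RingHom.injective (R := W.left.presheaf.stalk (q.base z)) (q.stalkMap z).hom ?_
    rw [map_one, ← germ_appTop q z (gmVal X s'), hg1, map_one]
  obtain ⟨(O : W.left.Opens), hO, i₁, i₂, hOe⟩ := W.left.presheaf.germ_eq (q.base z) (U := ⊤) (V := ⊤) trivial trivial
    (gmVal X s') (1 : Γ(W.left, ⊤)) (hgerm.trans (map_one _).symm)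
  have hres : (EtCoh.Gm X).obj.map (openIncl W O).op s' = 0 := by
    refine gmVal_injective X ?_
    rw [gmVal_map]
    show O.ι.appTop (gmVal X s') = 1
    rw [show O.ι.appTop (gmVal X s') = O.topIso.inv (W.left.presheaf.map i₁.op (gmVal X s')) from ?_, hOe,
      map_one, map_one]
    rw [Scheme.Opens.ι_appTop, Scheme.Opens.topIso_inv, ← ConcreteCategory.comp_apply, ← Functor.map_comp]
    rfl
  haveI : IsOpenImmersion (openIncl W O).left := inferInstanceAs (IsOpenImmersion O.ι)
  obtain ⟨l, hl⟩ : ∃ l : Spec (CommRingCat.of Ω) ⟶ O.toScheme, l ≫ O.ι = w.hom :=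
    ⟨IsOpenImmersion.lift O.ι w.hom (by
      rintro _ ⟨a, rfl⟩
      rw [Subsingleton.elim a default, Scheme.Opens.range_ι]
      show w.pt ∈ O
      rw [← hz]
      exact hO), IsOpenImmersion.lift_fac _ _ _⟩
  let w' : Fib ξ (openSub W O) := Fib.mk l (by
    show l ≫ O.ι ≫ W.hom = ξ
    rw [← Category.assoc, hl]
    exact w.w)
  have hw' : w'.map (openIncl W O) = w := Fib.ext hl
  rw [← hw', ← germ_res_apply, hres, map_zero]

theorem surjective_stk_φGm [IsNoetherian X] [IsReduced X] {x : X} (hmax : ∀ y, y ⤳ x → y = x)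
    {Ω : Type u} [Field Ω] [IsSepClosed Ω] (ξ : Spec (CommRingCat.of Ω) ⟶ X) (hξ : ξ.base default = x) :
    Function.Surjective ((stk (A := AddCommGrpCat.{u + 1}) ξ).map (φGm x)) := by
  intro p
  obtain ⟨V₀, v₀, t₀, rfl⟩ := exists_germ (A := AddCommGrpCat.{u + 1}) ξ p
  obtain ⟨V, g₀, v, hV, hv⟩ := exists_affine_below' ξ V₀ v₀
  haveI := hV
  rw [← hv, ← germ_res_apply]
  generalize (KGm x).obj.map g₀.op t₀ = t
  haveI : AlgebraicGeometry.Etale V.hom := V.prop
  -- shrink to a single point in the fibre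
  let B : Set V.left := {w | V.hom.base w = x ∧ w ≠ v.pt}
  have hB : B.Finite := (finite_fibre (V := V) x).subset fun w hw => hw.1
  let O₁ : V.left.Opens := ⟨(⋃ w ∈ B, closure {w})ᶜ, isOpen_compl_iff.2 (hB.isClosed_biUnion fun _ _ => isClosed_closure)⟩
  have hvO : v.pt ∈ O₁ := fun h => by
    obtain ⟨w, hwB, hw⟩ := Set.mem_iUnion₂.1 h
    exact hwB.2 (isMax_over hmax v.pt (fib_pt_over hξ v) w (specializes_iff_mem_closure.2 hw))
  have hO₁ : ∀ w ∈ O₁, V.hom.base w = x → w = v.pt := fun w hw hwx => by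
    by_contra hne
    exact hw (Set.mem_iUnion₂.2 ⟨w, ⟨hwx, hne⟩, subset_closure rfl⟩)
  let q : pullback V.hom (X.fromSpecResidueField x) ⟶ V.left := pullback.fst V.hom (X.fromSpecResidueField x)
  haveI := isPreimmersion_fst x V
  obtain ⟨z, hz⟩ := exists_fibre v.pt (fib_pt_over hξ v)
  let τ : Γ(pullback V.hom (X.fromSpecResidueField x), ⊤) :=
    gmVal (Spec (X.residueField x)) (W := (EtCoh.bc (X.fromSpecResidueField x)).obj V) t
  have hτu : IsUnit τ :=
    ⟨(show ULift.{u + 1} (Additive (Γ(pullback V.hom (X.fromSpecResidueField x), ⊤))ˣ) from t).down.toMul, rfl⟩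
  obtain ⟨u, hu⟩ := q.stalkMap_surjective z ((pullback V.hom (X.fromSpecResidueField x)).presheaf.germ ⊤ z trivial τ)
  have huu : IsUnit u := by
    haveI : IsLocalHom (q.stalkMap z).hom := inferInstance
    refine isUnit_of_map_unit (q.stalkMap z).hom u ?_
    rw [hu]
    exact hτu.map _
  obtain ⟨O₂, hzO₂, a, rfl⟩ := TopCat.Presheaf.exists_germ_eq V.left.presheaf u
  have hzb : q.base z ∈ V.left.basicOpen a := (Scheme.mem_basicOpen V.left a _ hzO₂).2 huu
  let O : V.left.Opens := V.left.basicOpen a ⊓ O₁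
  have hvO' : v.pt ∈ O := ⟨hz ▸ hzb, hvO⟩
  let W := openSub V O
  let j := openIncl V O
  have hle : ⊤ ≤ O.ι ⁻¹ᵁ O₂ := fun w _ => V.left.basicOpen_le a w.2.1
  let b : Γ(W.left, ⊤) := O.ι.appLE O₂ ⊤ hle a
  have hb : IsUnit b := by
    have h1 := RingedSpace.isUnit_res_basicOpen V.left.toLocallyRingedSpace.toRingedSpace a
    have hle' : ⊤ ≤ O.ι ⁻¹ᵁ V.left.basicOpen a := fun w _ => w.2.1
    have h2 := h1.map (O.ι.appLE (V.left.basicOpen a) ⊤ hle').hom
    have h3 : (O.ι.appLE (V.left.basicOpen a) ⊤ hle') (V.left.presheaf.map (homOfLE (V.left.basicOpen_le a)).op a) = b :=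
      congrArg (fun f : Γ(V.left, O₂) ⟶ Γ(W.left, ⊤) => f a) (Scheme.Hom.map_appLE O.ι hle' (homOfLE (V.left.basicOpen_le a)).op)
    exact h3 ▸ h2
  let s : ToType ((EtCoh.Gm X).obj.obj (op W)) := ULift.up (Additive.ofMul hb.unit)
  obtain ⟨l, hl⟩ : ∃ l : Spec (CommRingCat.of Ω) ⟶ O.toScheme, l ≫ O.ι = v.hom :=
    ⟨IsOpenImmersion.lift O.ι v.hom (by
      rintro _ ⟨c, rfl⟩
      rw [Subsingleton.elim c default, Scheme.Opens.range_ι]
      exact hvO'), IsOpenImmersion.lift_fac _ _ _⟩
  let w' : Fib ξ W := Fib.mk l (by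
    show l ≫ O.ι ≫ V.hom = ξ
    rw [← Category.assoc, hl]
    exact v.w)
  have hw' : w'.map j = v := Fib.ext hl
  refine ⟨germ ξ (EtCoh.Gm X) W w' s, ?_⟩
  rw [germ_natural_apply, ← hw', ← germ_res_apply]
  refine congrArg (germ ξ (KGm x) W w') (gmVal_injective (Spec (X.residueField x))
    (W := (EtCoh.bc (X.fromSpecResidueField x)).obj W) ?_)
  let k : pullback W.hom (X.fromSpecResidueField x) ⟶ pullback V.hom (X.fromSpecResidueField x) :=
    ((EtCoh.bc (X.fromSpecResidueField x)).map j).left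
  let q₂ : pullback W.hom (X.fromSpecResidueField x) ⟶ O.toScheme := pullback.fst W.hom (X.fromSpecResidueField x)
  have hk : k ≫ q = q₂ ≫ O.ι := (EtCoh.isPullback_bc_map (X.fromSpecResidueField x) j).w
  show q₂.appTop b = k.appTop τ
  refine TopCat.Presheaf.section_ext (pullback W.hom (X.fromSpecResidueField x)).sheaf ⊤ _ _ fun z₂ _ => ?_
  have hkz : k.base z₂ = z := by
    refine q.isEmbedding.injective ?_
    rw [show q.base z = v.pt from hz]
    have e1 : q.base (k.base z₂) = O.ι.base (q₂.base z₂) := congrArg (fun f => f.base z₂) hk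
    rw [e1]
    exact hO₁ _ (q₂.base z₂).2.2 (fibre_over z₂)
  subst hkz
  have hle₂ : ⊤ ≤ (k ≫ q) ⁻¹ᵁ O₂ := fun c _ => by
    rw [hk]
    exact hle trivial
  have e2 : q₂.appTop b = (k ≫ q).appLE O₂ ⊤ hle₂ a := by
    have e3 : q₂.appTop b = (q₂ ≫ O.ι).appLE O₂ ⊤ (fun c _ => hle trivial) a := by
      rw [← Scheme.Hom.appLE_comp_appLE q₂ O.ι O₂ ⊤ ⊤ hle (fun c _ => trivial)]
      show _ = q₂.appLE ⊤ ⊤ _ b
      rw [Scheme.Hom.appTop, Scheme.Hom.app_eq_appLE]
      rfl
    rw [e3]
    simp only [hk]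
  show (pullback W.hom (X.fromSpecResidueField x)).presheaf.germ ⊤ z₂ trivial (q₂.appTop b) =
    (pullback W.hom (X.fromSpecResidueField x)).presheaf.germ ⊤ z₂ trivial (k.appTop τ)
  rw [e2, germ_appLE, germ_appTop, Scheme.Hom.stalkMap_comp, ConcreteCategory.comp_apply]
  exact congrArg (k.stalkMap z₂) hu

theorem isZero_stk_KGm {x : X} {Ω : Type u} [Field Ω] [IsSepClosed Ω] (ξ : Spec (CommRingCat.of Ω) ⟶ X)
    (hξ : ¬ x ⤳ ξ.base default) : IsZero ((stk (A := AddCommGrpCat.{u + 1}) ξ).obj (KGm x)) := by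
  haveI : Subsingleton ((stk (A := AddCommGrpCat.{u + 1}) ξ).obj (KGm x)) := by
    refine subsingleton_stalk ξ (T := (closure ({x} : Set X))ᶜ) isClosed_closure.isOpen_compl
      (fun h => hξ (specializes_iff_mem_closure.2 h)) fun U hU => ?_
    haveI : IsEmpty ((EtCoh.bc (X.fromSpecResidueField x)).obj U).left := ⟨fun p =>
      hU ⟨_, rfl⟩ (by
        rw [show U.hom.base ((pullback.fst U.hom (X.fromSpecResidueField x)).base p) = x from fibre_over p]
        exact subset_closure rfl)⟩
    exact subsingleton_sect_of_isEmpty (EtCoh.Gm (Spec (X.residueField x))) ((EtCoh.bc (X.fromSpecResidueField x)).obj U)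
  exact AddCommGrpCat.isZero_of_subsingleton _

end SkySumLib

end
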