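import Groth.Agent.SkySumLib.MaxGm

/-!
# The unit of a point is bijective on the stalks over that point
-/

set_option autoImplicit false
set_option linter.style.haveILetI false
set_option linter.unusedSectionVars false
set_option backward.isDefEq.respectTransparency false
set_option backward.isDefEq.respectTransparency.types false
set_option synthInstance.maxHeartbeats 400000
set_option maxHeartbeats 2000000

universe u

open CategoryTheory CategoryTheory.Limits AlgebraicGeometry Opposite
open Groth.Agent.EtShLib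

noncomputable section

namespace SkySumLib

variable {X : Scheme.{u}} (F : EtCoh.Ab X) (x : X)

/-- `x_* x^* F`. -/
abbrev KP : EtCoh.Ab X :=
  (EtCoh.push (X.fromSpecResidueField x)).obj ((EtCoh.pull (X.fromSpecResidueField x)).obj F)

/-- The unit. -/
abbrev uP : F ⟶ KP F x := (EtCoh.pullPushAdj (X.fromSpecResidueField x)).unit.app F

variable {F x} {Ω : Type u} [Field Ω] [IsSepClosed Ω]
  (ζ : Spec (CommRingCat.of Ω) ⟶ Spec (X.residueField x))

theorem germ_uP (W : X.Etale) (v : Fib (ζ ≫ X.fromSpecResidueField x) W) (s : ToType (F.obj.obj (op W))) :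
    (stalkPull (X.fromSpecResidueField x) ζ AddCommGrpCat.{u + 1}).hom.app F
        (germ (ζ ≫ X.fromSpecResidueField x) F W v s) =
      germ ζ ((EtCoh.pull (X.fromSpecResidueField x)).obj F) ((EtCoh.bc (X.fromSpecResidueField x)).obj W)
        (v.lift (X.fromSpecResidueField x) ζ) ((uP F x).hom.app (op W) s) := by
  have e := germ_stalkPull (X.fromSpecResidueField x) ζ AddCommGrpCat.{u + 1} F W v
  rw [← ConcreteCategory.comp_apply, e]
  rfl

theorem germ_uP_eq_zero (W : X.Etale) (v : Fib (ζ ≫ X.fromSpecResidueField x) W) (s : ToType (F.obj.obj (op W)))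
    (h : (uP F x).hom.app (op W) s = 0) : germ (ζ ≫ X.fromSpecResidueField x) F W v s = 0 := by
  have h1 := germ_uP ζ W v s
  rw [h] at h1
  exact (ConcreteCategory.bijective_of_isIso
    ((stalkPull (X.fromSpecResidueField x) ζ AddCommGrpCat.{u + 1}).hom.app F)).1
      ((h1.trans (map_zero _)).trans (map_zero _).symm)

theorem injective_stk_uP :
    Function.Injective ((stk (A := AddCommGrpCat.{u + 1}) (ζ ≫ X.fromSpecResidueField x)).map (uP F x)) := by
  rw [injective_iff_map_eq_zero]
  intro p hp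
  obtain ⟨V, v, s, rfl⟩ := exists_germ (A := AddCommGrpCat.{u + 1}) (ζ ≫ X.fromSpecResidueField x) p
  rw [germ_natural_apply, ← map_zero (germ (ζ ≫ X.fromSpecResidueField x) (KP F x) V v).hom] at hp
  obtain ⟨W, g, w, hw, he⟩ := (germ_eq_iff (F := KP F x) _ V v _ _).1 hp
  rw [map_zero, ← NatTrans.naturality_apply] at he
  rw [← hw, ← germ_res_apply]
  exact germ_uP_eq_zero ζ W w _ he

theorem surjective_stk_uP [IsNoetherian X] :
    Function.Surjective ((stk (A := AddCommGrpCat.{u + 1}) (ζ ≫ X.fromSpecResidueField x)).map (uP F x)) := by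
  intro p
  obtain ⟨V, v, t, rfl⟩ := exists_germ (A := AddCommGrpCat.{u + 1}) (ζ ≫ X.fromSpecResidueField x) p
  obtain ⟨q, hq⟩ := (ConcreteCategory.bijective_of_isIso
    ((stalkPull (X.fromSpecResidueField x) ζ AddCommGrpCat.{u + 1}).hom.app F)).2
      (germ ζ ((EtCoh.pull (X.fromSpecResidueField x)).obj F) ((EtCoh.bc (X.fromSpecResidueField x)).obj V)
        (v.lift (X.fromSpecResidueField x) ζ) t)
  obtain ⟨W₀, g₀, v₀, s₀, hv₀, rfl⟩ := exists_germ_below (ζ ≫ X.fromSpecResidueField x) q V v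
  obtain ⟨W, g, w, hW, hw⟩ := exists_affine_below' (ζ ≫ X.fromSpecResidueField x) W₀ v₀
  haveI := hW
  haveI : AlgebraicGeometry.Etale W.hom := W.prop
  have hwx : W.hom.base w.pt = x := by
    refine fib_pt_over ?_ w
    have h : (X.fromSpecResidueField x).base (ζ.base default) ∈ Set.range (X.fromSpecResidueField x).base := ⟨_, rfl⟩
    rw [Scheme.range_fromSpecResidueField, Set.mem_singleton_iff] at h
    exact h
  let B : Set W.left := {a | W.hom.base a = x ∧ a ≠ w.pt}
  have hB : B.Finite := (finite_fibre (V := W) x).subset fun a ha => ha.1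
  let O : W.left.Opens :=
    ⟨(⋃ a ∈ B, closure {a})ᶜ, isOpen_compl_iff.2 (hB.isClosed_biUnion fun _ _ => isClosed_closure)⟩
  have hwO : w.pt ∈ O := fun h => by
    obtain ⟨a, haB, ha⟩ := Set.mem_iUnion₂.1 h
    exact haB.2 (eq_of_specializes_of_etale (specializes_iff_mem_closure.2 ha) (haB.1.trans hwx.symm))
  have hO : ∀ a ∈ O, W.hom.base a = x → a = w.pt := fun a ha hax => by
    by_contra hne
    exact ha (Set.mem_iUnion₂.2 ⟨a, ⟨hax, hne⟩, subset_closure rfl⟩)
  let W₁ := openSub W O
  obtain ⟨l, hl⟩ : ∃ l : Spec (CommRingCat.of Ω) ⟶ O.toScheme, l ≫ O.ι = w.hom :=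
    ⟨IsOpenImmersion.lift O.ι w.hom (by
      rintro _ ⟨c, rfl⟩
      rw [Subsingleton.elim c default, Scheme.Opens.range_ι]
      exact hwO), IsOpenImmersion.lift_fac _ _ _⟩
  let w₁ : Fib (ζ ≫ X.fromSpecResidueField x) W₁ := Fib.mk l (by
    show l ≫ O.ι ≫ W.hom = _
    rw [← Category.assoc, hl]
    exact w.w)
  let i := openIncl W O
  have hw₁ : w₁.map i = w := Fib.ext hl
  let s := F.obj.map i.op (F.obj.map g.op s₀)
  let t' := (KP F x).obj.map i.op ((KP F x).obj.map g.op ((KP F x).obj.map g₀.op t))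
  refine ⟨germ (ζ ≫ X.fromSpecResidueField x) F W₁ w₁ s, ?_⟩
  have hs : germ (ζ ≫ X.fromSpecResidueField x) F W₁ w₁ s = germ (ζ ≫ X.fromSpecResidueField x) F W₀ v₀ s₀ := by
    show germ _ F W₁ w₁ (F.obj.map i.op (F.obj.map g.op s₀)) = _
    rw [germ_res_apply, hw₁, germ_res_apply, hw]
  have ht : germ (ζ ≫ X.fromSpecResidueField x) (KP F x) W₁ w₁ t' =
      germ (ζ ≫ X.fromSpecResidueField x) (KP F x) V v t := by
    show germ _ (KP F x) W₁ w₁ ((KP F x).obj.map i.op ((KP F x).obj.map g.op ((KP F x).obj.map g₀.op t))) = _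
    rw [germ_res_apply, hw₁, germ_res_apply, hw, germ_res_apply, hv₀]
  rw [germ_natural_apply, ← ht]
  refine congrArg (germ (ζ ≫ X.fromSpecResidueField x) (KP F x) W₁ w₁) ?_
  rw [← sub_eq_zero]
  refine eq_zero_of_forall ((EtCoh.pull (X.fromSpecResidueField x)).obj F)
    (V := (EtCoh.bc (X.fromSpecResidueField x)).obj W₁) _ fun u => ?_
  let z₁ := w₁.lift (X.fromSpecResidueField x) ζ
  have hu : u = z₁.pt := by
    haveI := isPreimmersion_fst x W₁
    refine (pullback.fst W₁.hom (X.fromSpecResidueField x)).isEmbedding.injective ?_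
    have key : ∀ a : W₁.left, W₁.hom.base a = x → a = w₁.pt := fun a ha =>
      O.ι.isOpenEmbedding.injective
        ((hO _ a.2 ha).trans (congrArg (fun t : Spec (CommRingCat.of Ω) ⟶ W.left => t.base default) hl).symm)
    exact (key _ (fibre_over u)).trans (key _ (fibre_over z₁.pt)).symm
  subst hu
  rw [← germ_eq_zero_iff, map_sub, sub_eq_zero]
  show germ ζ ((EtCoh.pull (X.fromSpecResidueField x)).obj F) _ z₁ ((uP F x).hom.app (op W₁) s) = _
  rw [← germ_uP ζ W₁ w₁ s, hs, hq]
  show _ = germ ζ ((EtCoh.pull (X.fromSpecResidueField x)).obj F) _ z₁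
    (((EtCoh.pull (X.fromSpecResidueField x)).obj F).obj.map ((EtCoh.bc (X.fromSpecResidueField x)).map i).op
      (((EtCoh.pull (X.fromSpecResidueField x)).obj F).obj.map ((EtCoh.bc (X.fromSpecResidueField x)).map g).op
        (((EtCoh.pull (X.fromSpecResidueField x)).obj F).obj.map ((EtCoh.bc (X.fromSpecResidueField x)).map g₀).op t)))
  rw [germ_res_apply, germ_res_apply, germ_res_apply, lift_map, hw₁, lift_map, hw, lift_map, hv₀]

theorem bijective_stk_uP [IsNoetherian X] (F : EtCoh.Ab X) (x : X) {Ω : Type u} [Field Ω] [IsSepClosed Ω]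
    (ξ : Spec (CommRingCat.of Ω) ⟶ X) (hξ : ξ.base default = x) :
    Function.Bijective ((stk (A := AddCommGrpCat.{u + 1}) ξ).map (uP F x)) := by
  obtain ⟨ζ, rfl⟩ := exists_factor (X.fromSpecResidueField x) ξ
    (by rw [Scheme.range_fromSpecResidueField, hξ]; exact rfl)
  exact ⟨injective_stk_uP ζ, surjective_stk_uP ζ⟩

theorem isZero_stk_KP (F : EtCoh.Ab X) {x : X} {Ω : Type u} [Field Ω] [IsSepClosed Ω]
    (ξ : Spec (CommRingCat.of Ω) ⟶ X) (hξ : ¬ x ⤳ ξ.base default) :
    IsZero ((stk (A := AddCommGrpCat.{u + 1}) ξ).obj (KP F x)) := by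
  haveI : Subsingleton ((stk (A := AddCommGrpCat.{u + 1}) ξ).obj (KP F x)) := by
    refine subsingleton_stalk ξ (T := (closure ({x} : Set X))ᶜ) isClosed_closure.isOpen_compl
      (fun h => hξ (specializes_iff_mem_closure.2 h)) fun U hU => ?_
    haveI : IsEmpty ((EtCoh.bc (X.fromSpecResidueField x)).obj U).left := ⟨fun p =>
      hU ⟨_, rfl⟩ (by
        rw [show U.hom.base ((pullback.fst U.hom (X.fromSpecResidueField x)).base p) = x from fibre_over p]
        exact subset_closure rfl)⟩
    exact subsingleton_sect_of_isEmpty ((EtCoh.pull (X.fromSpecResidueField x)).obj F)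
      ((EtCoh.bc (X.fromSpecResidueField x)).obj U)
  exact AddCommGrpCat.isZero_of_subsingleton _

end SkySumLib

end
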